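import Mathlib
import Cfsg.Agent.Base
import Cfsg.Agent.Lib.Tensor.Ext

/-!
Groups containing `1 ⊗ EG W`: the elements of the unipotent radical of the stabiliser of `U ⊗ w`.
-/

set_option autoImplicit false
set_option linter.unusedSectionVars false
set_option linter.unusedSimpArgs false

namespace H28.Wr

open Module Cfsg H97 H11.Ten

variable {F U W V : Type*} [Field F] [AddCommGroup U] [Module F U] [AddCommGroup W]
  [Module F W] [AddCommGroup V] [Module F V] {σ : F →+* F} {T : TS F U W V} {PU : PQ F U σ}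
  {PW : PQ F W σ} {P : PQ F V σ} {M : Subgroup (V ≃ₗ[F] V)}

/-- A group of isometries containing the classical group of the second factor. -/
structure Cx [FiniteDimensional F W] (T : TS F U W V) (PU : PQ F U σ) (PW : PQ F W σ)
    (P : PQ F V σ) (M : Subgroup (V ≃ₗ[F] V)) : Prop where
  tf : TF T PU PW P
  hW : ∀ β ∈ EG PW, T.opE 1 β ∈ M
  hI : M ≤ P.Isom
  isoK : ∃ k, IsoK PW k ∧ k + 2 ≤ finrank F W
  three : 3 ≤ finrank F W
  extr : Extr PW
  nontriv : ∃ u : U, u ≠ 0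

namespace Cx

open TS

variable [FiniteDimensional F U] [FiniteDimensional F W] (h : Cx T PU PW P M)
include h

theorem opW {β : W ≃ₗ[F] W} (hβ : β ∈ EG PW) : T.opE 1 β ∈ M := h.hW β hβ

theorem isom {g : V ≃ₗ[F] V} (hg : g ∈ M) : g ∈ P.Isom := h.hI hg

theorem sing_perp {w x : W} (hx : x ∉ F ∙ w) :
    ∃ d, PW.q d ∈ PW.Λ ∧ PW.B d w = 0 ∧ PW.B d x ≠ 0 := by
  obtain ⟨k, hk, hn⟩ := h.isoK
  exact hk.exists_sing_perp h.tf.ndW hn hx

theorem trans {w w' : W} (h0 : w ≠ 0) (h0' : w' ≠ 0) (hw : PW.q w ∈ PW.Λ)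
    (hw' : PW.q w' ∈ PW.Λ) : ∃ β ∈ EG PW, β w = w' := by
  obtain ⟨k, hk, hn⟩ := h.isoK
  exact hk.exists_EG_apply_eq h.tf.ndW hn h0 h0' (PW.Λ.sub_mem hw hw')

theorem exists_sing : ∃ w : W, w ≠ 0 ∧ PW.q w ∈ PW.Λ := by
  obtain ⟨k, hk, hn⟩ := h.isoK
  simpa using hk ⊤ (by rw [finrank_top]; omega)

/-- a vector of `w^⊥` outside `⟨w⟩` -/
theorem exists_perp_notMem {w : W} (h0 : w ≠ 0) (hw : PW.q w ∈ PW.Λ) :
    ∃ y, PW.B w y = 0 ∧ y ∉ F ∙ w := by
  obtain ⟨f, -, hf⟩ := exists_pair h.tf.ndW h0 hw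
  obtain ⟨y, hy, e1, e2⟩ := exists_ker_two h.three (PW.B w) (PW.B f)
  refine ⟨y, e1, fun hc => ?_⟩
  obtain ⟨c, rfl⟩ := Submodule.mem_span_singleton.1 hc
  have := B_ne_zero_symm (P := PW) (x := w) (y := f) (by simp [hf])
  simp [this] at e2
  simp [e2] at hy

theorem exists_sing_perp_notMem {w : W} (h0 : w ≠ 0) (hw : PW.q w ∈ PW.Λ) :
    ∃ d, PW.q d ∈ PW.Λ ∧ PW.B w d = 0 ∧ d ∉ F ∙ w := by
  obtain ⟨y, e1, e2⟩ := h.exists_perp_notMem h0 hw
  obtain ⟨d, a1, a2, a3⟩ := h.sing_perp e2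
  refine ⟨d, a1, PW.eq_zero_symm a2, fun hc => ?_⟩
  obtain ⟨c, rfl⟩ := Submodule.mem_span_singleton.1 hc
  simp [e1] at a3

theorem has_op_eu {w v : W} {c : F} (hw : PW.q w ∈ PW.Λ) (hv : PW.B w v = 0)
    (hc : c - PW.q v ∈ PW.Λ) : ∃ β ∈ EG PW, T.opE 1 β ∈ M ∧
      ∀ x, T.opE 1 β x = T.op LinearMap.id (eu PW w v c) x := by
  obtain ⟨e, he, he'⟩ := has_eu_EG hw hv hc
  refine ⟨_, he, h.opW he, fun x => ?_⟩
  rw [← show (e : W →ₗ[F] W) = eu PW w v c from LinearMap.ext he']; rfl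

theorem one_mem_levF : (1 : Module.End F U) ∈ T.levF PW M := fun w y hw hy => by
  obtain ⟨k, -, hk, e⟩ := h.has_op_eu hw hy (c := PW.q y) (by simp)
  exact ⟨fun u => by simp [PW.eq_zero_symm hy], _, hk, fun x hx => by simp [e, op_eu, hx]⟩

theorem algF_le {a : Module.End F U} (ha : a ∈ T.algF PW M) : a ∈ T.levF PW M := by
  simpa using ha 1 h.one_mem_levF

theorem extract {w d : W} (h0 : w ≠ 0) (hw : PW.q w ∈ PW.Λ) (hd : PW.q d ∈ PW.Λ)
    (hwd : PW.B w d = 0) {n : V →ₗ[F] U} (hn : T.HasN PW M w n) (c : F) :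
    T.HasN PW M w (c • (n ∘ₗ T.τ.flip d) ∘ₗ T.cB PW d) := by
  let E : Subring (Module.End F W) :=
    { carrier := {f | ∀ n, T.HasN PW M w n → T.HasN PW M w (n ∘ₗ T.op LinearMap.id f)}
      mul_mem' := fun {f g} hf hg n hn => by
        convert hg _ (hf n hn) using 1
        exact T.lext fun u y => by simp
      one_mem' := fun n hn => by
        convert hn using 1
        exact T.lext fun u y => by simp
      add_mem' := fun {f g} hf hg n hn => by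
        convert (hf n hn).add hw (hg n hn) using 1
        exact T.lext fun u y => by simp
      zero_mem' := fun n hn => by
        convert hasN_zero w using 1
        exact T.lext fun u y => by simp
      neg_mem' := fun {f} hf n hn => by
        convert (hf n hn).neg hw using 1
        exact T.lext fun u y => by simp }
  have := h.extr w d hw hd hwd E (fun β hβ c hc n hn => ?_) (fun f hf n hn => ?_) c n hn
  · convert this using 1
    exact T.lext fun u y => by simp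
  · have hc0 : c ≠ 0 := by
      rintro rfl
      exact h0 (by simpa using hc)
    have := hn.conj (w := w) (h.opW hβ) (α := LinearEquiv.smulOfNeZero F U c hc0)
      (fun u => by simp [hc]) fun x hx => by
        have := T.cB_opE 1 (EG_le_isom hβ) w x
        rw [hc, cB_smul, hx] at this
        simpa [hc0] using this
    convert this using 1
    exact T.lext fun u y => by simp [Units.smul_def]
  · refine (hasN_zero w).congr hw fun x hx => ?_
    refine T.eq_zero_of_ker (f := n ∘ₗ T.op LinearMap.id f) (fun u y hy => ?_) hx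
    obtain ⟨a, ha⟩ := Submodule.mem_span_singleton.1 (hf y hy)
    simp [← ha, hn.1]

theorem mem_levF_of {w y : W} (h0 : w ≠ 0) (hw : PW.q w ∈ PW.Λ) (hy : PW.B w y = 0)
    (hyw : y ∉ F ∙ w) {s : Module.End F U} (hs : T.HasN PW M w (s ∘ₗ T.cB PW y)) :
    s ∈ T.levF PW M := by
  let E : Submodule F W :=
    { carrier := {y | ∀ c : F, T.HasN PW M w (c • s ∘ₗ T.cB PW y)}
      zero_mem' := fun c => by simpa [cB_zero] using hasN_zero w
      add_mem' := fun ha hb c => by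
        simpa [cB_add, LinearMap.comp_add] using (ha c).add hw (hb c)
      smul_mem' := fun a y hy c => by
        have := hy (c * σ a)
        rwa [mul_smul, ← LinearMap.comp_smul, ← cB_smul] at this }
  have h1 : ∀ d, PW.q d ∈ PW.Λ → PW.B w d = 0 → PW.B y d ≠ 0 → d ∈ E := fun d hd hwd hne c => by
    convert h.extract h0 hw hd hwd hs (c * (PW.B y d)⁻¹) using 1
    ext x
    simp [smul_smul, hne]
  obtain ⟨d, a1, a2, a3⟩ := h.sing_perp hyw
  have h2 : ∀ y', PW.B w y' = 0 → y' ∈ E := fun y' =>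
    perp_le_of_sing h.tf.ndW (fun x => h.sing_perp) fun d' hd' hwd' => by
      by_cases e1 : PW.B y d' = 0
      swap
      · exact h1 d' hd' hwd' e1
      have b1 := h1 d a1 (PW.eq_zero_symm a2) (B_ne_zero_symm a3)
      by_cases e2 : PW.B d d' = 0
      · simpa using E.sub_mem (h1 (d + d') (sing_add a1 hd' e2) (by simp [PW.eq_zero_symm a2, hwd'])
          (by simpa [e1] using B_ne_zero_symm a3)) b1
      · intro c
        convert h.extract h0 hw hd' hwd' (b1 1) (c * (PW.B d d')⁻¹) using 1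
        ext x
        simp [smul_smul, e2]
  intro w' y' hw' hy'
  by_cases h0' : w' = 0
  · subst h0'
    exact ⟨fun u => by simp, 1, M.one_mem, fun x _ => by simp⟩
  obtain ⟨β, hβ, rfl⟩ := h.trans h0' h0 hw' hw
  have := h2 (β y') (by rw [B_isom (EG_le_isom hβ), hy']) 1
  rw [one_smul] at this
  refine (this.conj (w := w') (h.opW hβ) (α := 1) (fun u => by simp) fun x hx => ?_).congr hw'
    fun x _ => ?_
  · rw [T.cB_opE 1 (EG_le_isom hβ), hx, map_zero]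
  · simp [T.cB_opE 1 (EG_le_isom hβ)]
    rfl

theorem comp_mem {w y : W} (h0 : w ≠ 0) (hw : PW.q w ∈ PW.Λ) (hy : PW.B w y = 0)
    {n : V →ₗ[F] U} (hn : T.HasN PW M w n) : n ∘ₗ T.τ.flip y ∈ T.levF PW M := by
  refine perp_le_of_sing h.tf.ndW (fun x => h.sing_perp)
    (E := (T.levF PW M).comap ((LinearMap.llcomp F U V U n) ∘ₗ T.τ.flip)) (fun d hd hwd => ?_) hy
  change n ∘ₗ T.τ.flip d ∈ T.levF PW M
  by_cases e : d ∈ F ∙ w
  · obtain ⟨a, rfl⟩ := Submodule.mem_span_singleton.1 e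
    convert (T.levF PW M).zero_mem
    ext u
    simp [hn.1]
  · exact h.mem_levF_of h0 hw hwd e (by simpa using h.extract h0 hw hd hwd hn 1)

/-- Conjugating by an element fixing `U ⊗ w` pointwise. -/
theorem comp_mem' {w y : W} (h0 : w ≠ 0) (hw : PW.q w ∈ PW.Λ) (hy : PW.B w y = 0)
    {n : V →ₗ[F] U} (hn : T.HasN PW M w n) {g : V ≃ₗ[F] V} (hg : g ∈ M)
    (h1 : ∀ u, g (T.τ u w) = T.τ u w) : n ∘ₗ g ∘ₗ T.τ.flip y ∈ T.levF PW M :=
  h.comp_mem h0 hw hy (hn.conj (w := w) hg (α := 1) h1 fun x hx => by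
    rw [h.tf.cB_apply (h.isom hg) h1, hx])

theorem hasS_trans {w w' : W} (h0 : w ≠ 0) (h0' : w' ≠ 0) (hw : PW.q w ∈ PW.Λ)
    (hw' : PW.q w' ∈ PW.Λ) {t : Module.End F U} (ht : T.HasS M t w (PW.B w)) :
    T.HasS M t w' (PW.B w') := by
  obtain ⟨β, hβ, rfl⟩ := h.trans h0 h0' hw hw'
  refine (Has.conj ht (h.opW hβ)).congr fun x => ?_
  have := T.cB_opE 1 (EG_le_isom hβ) w ((T.opE 1 β)⁻¹ x)
  rw [le_apply_inv] at this
  rw [map_add, le_apply_inv, opE_τ]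
  exact congrArg (fun z => x + T.τ (t z) (β w)) this.symm

theorem mem_algF_of_hasS {w : W} (h0 : w ≠ 0) (hw : PW.q w ∈ PW.Λ) {t : Module.End F U}
    (ht : T.HasS M t w (PW.B w)) : t ∈ T.algF PW M := fun s hs => by
  obtain ⟨d, a1, a2, a3⟩ := h.exists_sing_perp_notMem h0 hw
  obtain ⟨y, b1, b2⟩ := exists_perp_ne h.tf.ndW a3 1
  obtain ⟨g, hg, e⟩ := h.hasS_trans h0 (fun e => a3 (by simp [e])) hw a1 ht
  have hyd := B_ne_zero_symm (P := PW) (x := d) (y := y) (by simp [b2])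
  have := Submodule.sub_mem _ (h.comp_mem' h0 hw b1 (hs w y hw b1) hg fun u => by
    simp [e, PW.eq_zero_symm a2]) (h.comp_mem h0 hw b1 (hs w y hw b1))
  refine (Submodule.smul_mem_iff _ hyd).1 ?_
  convert this using 1
  ext u
  simp [e, b2]

theorem levF_le_algF (hb : 5 ≤ finrank F W) {a : Module.End F U} (ha : a ∈ T.levF PW M) :
    a ∈ T.algF PW M := fun s hs => by
  obtain ⟨w, h0, hw⟩ := h.exists_sing
  obtain ⟨d, a1, a2, a3⟩ := h.exists_sing_perp_notMem h0 hw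
  obtain ⟨y, b1, b2⟩ := exists_perp_ne h.tf.ndW a3 1
  obtain ⟨v, hv, v', hv', e⟩ : ∃ v ∈ perp PW ((F ∙ w) ⊔ F ∙ d), ∃ v' ∈ perp PW ((F ∙ w) ⊔ F ∙ d),
      PW.B v v' ≠ 0 := by
    by_contra hc
    push Not at hc
    have h1 : perp PW ((F ∙ w) ⊔ F ∙ d) ≤ (F ∙ w) ⊔ F ∙ d := by
      conv_rhs => rw [← perp_perp h.tf.ndW ((F ∙ w) ⊔ F ∙ d)]
      exact fun x hx y hy => hc y hy x hx
    have h2 := Submodule.finrank_mono h1
    have := finrank_le_perp (P := PW) ((F ∙ w) ⊔ F ∙ d)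
    have := finrank_sup_le' (F ∙ w) (F ∙ d)
    have := finrank_span_singleton_le (F := F) w
    have := finrank_span_singleton_le (F := F) d
    omega
  rw [perp_sup] at hv hv'
  have c1 := mem_perp_singleton.1 hv.1
  have c2 := mem_perp_singleton.1 hv.2
  have c3 := mem_perp_singleton.1 hv'.1
  have c4 := mem_perp_singleton.1 hv'.2
  obtain ⟨-, g, hg, e1⟩ := ha d v a1 c2
  have hyd := B_ne_zero_symm (P := PW) (x := d) (y := y) (by simp [b2])
  have := Submodule.sub_mem _ (h.comp_mem' h0 hw c3 (hs w y hw b1) hg fun u => by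
    rw [e1 _ (by simp [PW.eq_zero_symm a2])]
    simp [PW.eq_zero_symm c1]) (h.comp_mem h0 hw c3 (hs w y hw b1))
  refine (Submodule.smul_mem_iff _ (mul_ne_zero hyd e)).1 ?_
  convert this using 1
  ext u
  simp [e1 (T.τ u v') (by simp [c4]), smul_smul, mul_comm]

theorem hasS_comm {w y₁ y₂ : W} (hw : PW.q w ∈ PW.Λ) (h1 : PW.B w y₁ = 0) (h2 : PW.B w y₂ = 0)
    {s₁ s₂ s₁' s₂' : Module.End F U} (hs₁ : s₁ ∈ T.levF PW M) (hs₂ : s₂ ∈ T.levF PW M)
    (a₁ : ∀ x y, PU.B (s₁ x) y = PU.B x (s₁' y)) (a₂ : ∀ x y, PU.B (s₂ x) y = PU.B x (s₂' y)) :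
    T.HasS M (σ (PW.B y₁ y₂) • s₂ * s₁' - σ (PW.B y₂ y₁) • s₁ * s₂') w (PW.B w) := by
  obtain ⟨n₁, k₁, hk₁, e₁⟩ := hs₁ w y₁ hw h1
  obtain ⟨n₂, k₂, hk₂, e₂⟩ := hs₂ w y₂ hw h2
  have f₁ := HasN.fix hw n₁ e₁
  have f₂ := HasN.fix hw n₂ e₂
  have key : ∀ {k : V ≃ₗ[F] V} {s s' : Module.End F U} {y y' : W}, k ∈ M → PW.B w y = 0 →
      PW.B w y' = 0 → (∀ x y, PU.B (s x) y = PU.B x (s' y)) → (∀ u, k (T.τ u w) = T.τ u w) →
      (∀ x, T.cB PW w x = 0 → k x = x + T.τ ((s ∘ₗ T.cB PW y) x) w) →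
      ∀ x, T.cB PW y' (k x) = T.cB PW y' x - σ (PW.B y y') • s' (T.cB PW w x) :=
    fun {k s s' y y'} hk hy hy' a f e x => by
    rw [← sub_eq_zero]
    refine sep_right h.tf.ndU fun u => ?_
    have e1 := B_isom (h.isom hk) (T.τ u y') x
    rw [e _ (by simp [hy'])] at e1
    rw [map_add, LinearMap.add_apply, h.tf.B_left, h.tf.B_left, h.tf.B_left,
      h.tf.cB_apply (h.isom hk) f, LinearMap.comp_apply, a, cB_τ, B_smul_left] at e1
    simp only [map_sub, map_smul, smul_eq_mul]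
    linear_combination e1
  refine ⟨(k₂ * k₁)⁻¹ * (k₁ * k₂), M.mul_mem (M.inv_mem (M.mul_mem hk₂ hk₁)) (M.mul_mem hk₁ hk₂),
    fun x => ?_⟩
  rw [le_mul_apply, le_inv_apply, LinearEquiv.symm_apply_eq]
  have c1 := e₁ (k₂ x - x) (by rw [map_sub, h.tf.cB_apply (h.isom hk₂) f₂, sub_self])
  have c2 := e₂ (k₁ x - x) (by rw [map_sub, h.tf.cB_apply (h.isom hk₁) f₁, sub_self])
  simp only [map_sub, LinearMap.comp_apply, key hk₂ h2 h1 a₂ f₂ e₂, key hk₁ h1 h2 a₁ f₁ e₁,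
    map_smul, LinearMap.sub_apply, LinearMap.smul_apply] at c1 c2
  simp only [le_mul_apply, map_add, f₁, f₂, LinearMap.sub_apply, Module.End.mul_apply,
    LinearMap.smul_apply, map_sub, map_smul]
  change _ = _ + (σ (PW.B y₁ y₂) • T.τ (s₂ (s₁' (T.cB PW w x))) w -
    σ (PW.B y₂ y₁) • T.τ (s₁ (s₂' (T.cB PW w x))) w)
  rw [sub_eq_iff_eq_add] at c1 c2
  rw [c1, c2]
  abel

theorem comm_mem_algF (c : F) {s₁ s₂ s₁' s₂' : Module.End F U} (hs₁ : s₁ ∈ T.levF PW M)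
    (hs₂ : s₂ ∈ T.levF PW M) (a₁ : ∀ x y, PU.B (s₁ x) y = PU.B x (s₁' y))
    (a₂ : ∀ x y, PU.B (s₂ x) y = PU.B x (s₂' y)) :
    σ c • s₂ * s₁' - (PW.ε * c) • s₁ * s₂' ∈ T.algF PW M := by
  obtain ⟨w, h0, hw⟩ := h.exists_sing
  obtain ⟨y, b1, b2⟩ := h.exists_perp_notMem h0 hw
  obtain ⟨y', c1, c2⟩ := exists_perp_ne h.tf.ndW b2 c
  have := h.mem_algF_of_hasS h0 hw (h.hasS_comm hw b1 c1 hs₁ hs₂ a₁ a₂)
  rwa [PW.symm y y', c2, map_mul, PW.σε, PW.σσ] at this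

theorem exists_perp_pair {w : W} (h0 : w ≠ 0) (hw : PW.q w ∈ PW.Λ) :
    ∃ w' y y', PW.q w' ∈ PW.Λ ∧ PW.B w w' = 1 ∧ PW.B w y = 0 ∧ PW.B w' y = 0 ∧ PW.B w y' = 0 ∧
      PW.B w' y' = 0 ∧ PW.B y y' = 1 := by
  obtain ⟨f, hf, e⟩ := exists_pair h.tf.ndW h0 hw
  obtain ⟨y, hy, e1, e2⟩ := exists_ker_two h.three (PW.B w) (PW.B f)
  obtain ⟨x, hx⟩ := exists_B_eq h.tf.ndW hy 1
  have hfw : PW.B f w = PW.ε := by rw [PW.symm, e]; simp
  refine ⟨f, y, x - PW.B w x • f - (PW.ε * PW.B f x) • w, hf, e, e1, e2, ?_, ?_, ?_⟩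
  · simp [e, PW.self_eq_zero hw]
  · simp [hfw, PW.self_eq_zero hf]; linear_combination (-PW.B f x) * PW.εε
  · simp [hx, PW.eq_zero_symm e1, PW.eq_zero_symm e2]

theorem hasN_of_top (ht : ∀ s, s ∈ T.levF PW M) {w : W} (h0 : w ≠ 0) (hw : PW.q w ∈ PW.Λ)
    {n : V →ₗ[F] U} (hn : ∀ u, n (T.τ u w) = 0) : T.HasN PW M w n := by
  classical
  obtain ⟨φ, hφ⟩ := exists_dual_of_ne_zero (F := F) h0 1
  let b := Module.finBasis F W
  choose y hy using fun j => exists_repr_dual PW.σσ PW.B h.tf.ndW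
    (b.coord j - b.coord j w • φ)
  have h1 : n = ∑ j, (n ∘ₗ T.τ.flip (b j)) ∘ₗ T.cB PW (y j) := T.lext fun u x => by
    have e1 : x - φ x • w = ∑ j, PW.B (y j) x • b j := by
      conv_lhs => rw [← b.sum_repr (x - φ x • w)]
      exact Finset.sum_congr rfl fun j _ => by simp [hy, mul_comm]
    have e2 := congrArg (fun z => n (T.τ u z)) e1
    simpa [hn] using e2
  rw [h1]
  refine Finset.sum_induction _ _ (fun _ _ => HasN.add hw) (hasN_zero w) fun j _ => ?_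
  exact ht _ w (y j) hw (PW.eq_zero_symm (by simp [hy, hφ]))

theorem has_eu_of_top (ht : ∀ s, s ∈ T.levF PW M) {w : W} (h0 : w ≠ 0) (hw : PW.q w ∈ PW.Λ)
    (u : U) {z : V} (hz : T.cB PW w z = 0) {c : F} (hc : c - P.q z ∈ P.Λ) :
    Has M (eu P (T.τ u w) z c) := by
  have := T.finite
  obtain ⟨-, k, hk, e1⟩ := h.hasN_of_top ht h0 hw (n := (P.B z).smulRight u) fun u' => by
    simp [P.eq_zero_symm (show P.B (T.τ u' w) z = 0 by simp [h.tf.B_left, hz])]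
  have hd := h.tf.singW u hw
  obtain ⟨e, he, he'⟩ := has_eu_isom hd (by simp [h.tf.B_left, hz]) hc
  have e2 : ∀ x, T.cB PW w x = 0 → (k⁻¹ * e) x = x := fun x hx => by
    rw [le_mul_apply, le_inv_apply, LinearEquiv.symm_apply_eq, e1 x hx, he', eu_apply]
    simp [h.tf.B_left, hx]
  have hI := P.Isom.mul_mem (P.Isom.inv_mem (h.isom hk)) he
  have : k⁻¹ * e ∈ M := by
    refine mem_of_unip h.tf.nd (X := T.col w) (Y := T.col w) ?_ le_rfl (h.tf.col_le_perp hw) ?_ hI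
      ?_ (fun x hx => by simp [e2 x (h.tf.mem_perp_col.1 hx)]) fun x => ?_
    · rintro _ ⟨u, rfl⟩; exact h.tf.singW u hw
    · rintro _ ⟨u₁, rfl⟩ _ ⟨u₂, rfl⟩ c hc
      obtain ⟨a, rfl⟩ := h.tf.hΛ c (by simpa using P.Λ.add_mem hc (h.tf.singW u₂ hw))
      obtain ⟨-, y, y', -, -, b1, -, b2, -, b3⟩ := h.exists_perp_pair h0 hw
      refine (h.hasS_comm hw b1 b2 (ht (PU.ε • r1 PU (u₂ + a • u₁) u₁)) h.one_mem_levF
        (s₁' := r1 PU u₁ (u₂ + a • u₁)) (s₂' := 1) (fun x y => ?_) fun _ _ => rfl).congr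
        fun x => ?_
      · simp only [LinearMap.smul_apply, r1_apply, B_smul_left, map_smul, smul_eq_mul, PU.σε,
          PU.symm u₁ x]
        ring
      · have := eu_add_smul (P := P) (T.τ u₁ w) (T.τ u₂ w) a 0 x
        rw [zero_add] at this
        change _ = eu P (T.τ u₁ w) (T.τ u₂ w) _ x
        rw [← this, eu_apply, PW.symm y y', b3,
          show T.τ u₂ w + a • T.τ u₁ w = T.τ (u₂ + a • u₁) w by simp, h.tf.B_left, h.tf.B_left]
        simp only [h.tf.ε_eq, map_one, mul_one, PW.σε, LinearMap.sub_apply, Module.End.mul_apply,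
          LinearMap.smul_apply, Module.End.one_apply, r1_apply, map_sub, map_smul, cB]
        module
    · rintro _ ⟨u, rfl⟩; exact e2 _ (cB_self hw u)
    · rw [← perp_perp h.tf.nd (T.col w)]
      intro y hy
      have := B_isom hI y x
      rw [e2 y (h.tf.mem_perp_col.1 hy)] at this
      simp only [map_sub, this, sub_self]
  exact ⟨e, by simpa using M.mul_mem hk this, he'⟩

theorem xle_of_top (ht : ∀ s, s ∈ T.levF PW M) {w : W} (h0 : w ≠ 0) (hw : PW.q w ∈ PW.Λ)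
    (u : U) : XLe P M (T.τ u w) := fun z c hz hc => by
  obtain ⟨w', y, y', a1, a2, a3, a4, a5, a6, a7⟩ := h.exists_perp_pair h0 hw
  obtain ⟨u₂, hu₂⟩ := h.nontriv
  obtain ⟨u₃, hu₃⟩ := exists_B_eq h.tf.ndU hu₂ 1
  rw [h.tf.B_left] at hz
  set u' := T.cB PW w z with hu'
  have h0' : w' ≠ 0 := by rintro rfl; simp at a2
  obtain ⟨g, hg, e⟩ := h.has_eu_of_top ht h0' a1 u' (z := T.τ u₂ y) (by simp [a4])
    (c := P.q (T.τ u₂ y)) (by simp)
  have e1 : g (T.τ u w) = T.τ u w := by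
    rw [e, eu_fix] <;> simp [h.tf.B_τ, PU.eq_zero_symm hz, PW.eq_zero_symm a3]
  have e2 : g (T.τ u₃ y') = T.τ u₃ y' + T.τ u' w' := by
    simp [e, eu_apply, h.tf.B_τ, a6, a7, hu₃]
  have b1 := has_eu_conj (h.has_eu_of_top ht h0 hw u (z := T.τ u₃ y') (by simp [a5])
    (c := P.q (T.τ u₃ y')) (by simp)) hg (h.isom hg)
  have b2 := isom_valid (h.isom hg) (w := T.τ u₃ y') (c := P.q (T.τ u₃ y')) (by simp)
  rw [e1] at b1
  set x := g (T.τ u₃ y') with hx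
  have b3 : T.cB PW w (z - x) = 0 := by simp [e2, a5, a2, hu']
  have b4 := h.has_eu_of_top ht h0 hw u b3 (c := c - P.q (T.τ u₃ y') - P.B (z - x) x) (by
    have := P.Λ.sub_mem (P.Λ.add_mem hc (P.q_add (z - x) x)) b2
    rw [sub_add_cancel] at this
    convert this using 1
    ring)
  refine (b4.comp b1).congr fun v => ?_
  rw [eu_comp (P.self_eq_zero (h.tf.singW u hw)) (by simp [h.tf.B_left, b3])
    (by simp [e2, h.tf.B_τ, a5, hz])]
  congr 2
  · simp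
  · ring

theorem EG_le_of_top (ht : ∀ s, s ∈ T.levF PW M) : EG P ≤ M := by
  have := T.finite
  obtain ⟨w, h0, hw⟩ := h.exists_sing
  obtain ⟨w', a1, a2⟩ := exists_pair h.tf.ndW h0 hw
  obtain ⟨u, hu⟩ := h.nontriv
  obtain ⟨u', hu'⟩ := exists_B_eq h.tf.ndU hu 1
  exact EG_le_of_xle h.tf.nd (h.tf.singW u hw) (h.tf.singW u' a1) (h.xle_of_top ht h0 hw u)
    (h.xle_of_top ht (by rintro rfl; simp at a2) a1 u') (by simp [h.tf.B_τ, a2, hu'])

variable (hR : ∀ s ∈ T.levF PW M, ∃ c : F, s = c • LinearMap.id)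
include hR

theorem ext_unip {w : W} (h0 : w ≠ 0) (hw : PW.q w ∈ PW.Λ) {k : V ≃ₗ[F] V} (hk : k ∈ M)
    (h1 : ∀ u, k (T.τ u w) = T.τ u w) (h2 : ∀ x, T.cB PW w x = 0 → k x - x ∈ T.col w) :
    ∃ v, PW.B w v = 0 ∧ ∃ c : F, ∀ x, k x = T.op LinearMap.id (eu PW w v c) x := by
  have := T.finite
  obtain ⟨φ, hφ⟩ := exists_dual_of_ne_zero (F := F) h0 1
  have hc : ∀ {k : V ≃ₗ[F] V} {x : V}, k x - x ∈ T.col w →
      k x = x + T.τ (T.cW φ (k x - x)) w := fun {k x} ⟨u, hu⟩ => by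
    change T.τ u w = _ at hu
    rw [← hu, cW_τ, hφ, one_smul, hu, add_sub_cancel]
  let n : V →ₗ[F] U := T.cW φ ∘ₗ ((k : V →ₗ[F] V) - LinearMap.id)
  have hn : T.HasN PW M w n := ⟨fun u => by simp [n, h1], k, hk, fun x hx => hc (h2 x hx)⟩
  obtain ⟨u₀, hu₀⟩ := h.nontriv
  obtain ⟨ψ, hψ⟩ := exists_dual_of_ne_zero (F := F) hu₀ 1
  obtain ⟨v, hv⟩ := exists_repr_dual PW.σσ PW.B h.tf.ndW (ψ ∘ₗ n ∘ₗ T.τ u₀)
  have hwv : PW.B w v = 0 := PW.eq_zero_symm (by simp [hv, hn.1])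
  have hnv : ∀ x, T.cB PW w x = 0 → n x = T.cB PW v x := fun x hx => by
    rw [← sub_eq_zero]
    refine T.eq_zero_of_ker (f := n - T.cB PW v) (fun u y hy => ?_) hx
    obtain ⟨c, e⟩ := hR _ (h.comp_mem h0 hw hy hn)
    have e1 : ∀ u, n (T.τ u y) = c • u := fun u => LinearMap.congr_fun e u
    simp [hv, e1, hψ]
  have hkv : ∀ x, T.cB PW w x = 0 → k x = x + T.τ (T.cB PW v x) w := fun x hx => by
    rw [← hnv x hx]; exact hc (h2 x hx)
  refine ⟨v, hwv, ?_⟩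
  obtain ⟨β, -, he, he'⟩ := h.has_op_eu hw hwv (c := PW.q v) (by simp)
  set e := T.opE 1 β
  have hg := M.mul_mem (M.inv_mem he) hk
  have e2 : ∀ x, T.cB PW w x = 0 → (e⁻¹ * k) x = x := fun x hx => by
    rw [le_mul_apply, le_inv_apply, LinearEquiv.symm_apply_eq, hkv x hx, he', op_eu]
    simp [hx]
  set g := e⁻¹ * k with hg'
  have e3 : ∀ x, g x - x ∈ T.col w := fun x => by
    rw [← perp_perp h.tf.nd (T.col w)]
    intro y hy
    have := B_isom (h.isom hg) y x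
    rw [e2 y (h.tf.mem_perp_col.1 hy)] at this
    simp only [map_sub, this, sub_self]
  obtain ⟨w', -, a2⟩ := exists_pair h.tf.ndW h0 hw
  let t : Module.End F U := T.cW φ ∘ₗ ((g : V →ₗ[F] V) - LinearMap.id) ∘ₗ T.τ.flip w'
  have e4 : ∀ x, g x = x + T.τ (t (T.cB PW w x)) w := fun x => by
    have a3 := e2 (x - T.τ (T.cB PW w x) w') (by simp [a2])
    have a4 := hc (e3 (T.τ (T.cB PW w x) w'))
    rw [map_sub, sub_eq_iff_eq_add, a4] at a3
    rw [a3]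
    simp [t]
    abel
  obtain ⟨c, e5⟩ := hR t (h.algF_le (h.mem_algF_of_hasS h0 hw ⟨g, hg, e4⟩))
  refine ⟨PW.q v - PW.ε * c, fun x => ?_⟩
  rw [show k x = e (g x) by simp [hg'], he', e4, e5, op_eu, op_eu]
  simp [PW.self_eq_zero hw, PW.eq_zero_symm hwv, mul_sub, ← mul_assoc, PW.εε, sub_smul]
  abel

end Cx

end H28.Wr
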